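import Groth.Prelude.Def_W4bk5brsh7111920
import Mathlib.Topology.NoetherianSpace
import Mathlib.Topology.Connected.Clopen
import Mathlib.Order.KrullDimension

/-!
# Connectedness dimension in terms of irreducible components
-/

set_option autoImplicit false
universe u

namespace GrothLib.ConnDim
open TopologicalSpace Topology

variable {T : Type u} [TopologicalSpace T]

theorem dim_mono {s t : Set T} (h : s ⊆ t) : topologicalKrullDim s ≤ topologicalKrullDim t :=
  (IsEmbedding.inclusion h).isInducing.topologicalKrullDim_le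

theorem dim_le (s : Set T) : topologicalKrullDim s ≤ topologicalKrullDim T :=
  topologicalKrullDim_subspace_le T s

theorem dim_univ : topologicalKrullDim (Set.univ : Set T) = topologicalKrullDim T :=
  IsHomeomorph.topologicalKrullDim_eq _ (Homeomorph.Set.univ T).isHomeomorph

theorem not_subset_sUnion {C : Set T} (hC : C ∈ irreducibleComponents T) {F : Set (Set T)}
    (hF : F ⊆ irreducibleComponents T) (hfin : F.Finite) (hCF : C ∉ F) : ¬ C ⊆ ⋃₀ F := by
  intro h
  obtain ⟨z, hz, hCz⟩ := isIrreducible_iff_sUnion_isClosed.1 hC.1 hfin.toFinset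
    (fun z hz => isClosed_of_mem_irreducibleComponents z (hF (hfin.mem_toFinset.1 hz)))
    (by rwa [hfin.coe_toFinset])
  have hz' := hfin.mem_toFinset.1 hz
  exact hCF (subset_antisymm hCz (hC.2 (hF hz').1 hCz) ▸ hz')

theorem isClosed_sUnion {F : Set (Set T)} (hF : F ⊆ irreducibleComponents T) (hfin : F.Finite) :
    IsClosed (⋃₀ F) := by
  rw [Set.sUnion_eq_biUnion]
  exact hfin.isClosed_biUnion fun z hz => isClosed_of_mem_irreducibleComponents z (hF hz)

theorem connDim_le_dim_univ : LocCoh.connDim T ≤ topologicalKrullDim T :=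
  (iInf₂_le (Set.univ : Set T) ⟨isClosed_univ, by simp [Set.compl_univ, IsConnected]⟩).trans
    (dim_le _)

variable [NoetherianSpace T]

theorem connDim_le_pair {A B : Set (Set T)} (hA : A ⊆ irreducibleComponents T)
    (hB : B ⊆ irreducibleComponents T) (hAn : A.Nonempty) (hBn : B.Nonempty)
    (hu : A ∪ B = irreducibleComponents T) :
    LocCoh.connDim T ≤ topologicalKrullDim ↥(⋃₀ A ∩ ⋃₀ B) := by
  classical
  have hfin : (irreducibleComponents T).Finite := NoetherianSpace.finite_irreducibleComponents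
  by_cases hall : A = irreducibleComponents T ∧ B = irreducibleComponents T
  · obtain ⟨rfl, rfl⟩ := hall
    rw [sUnion_irreducibleComponents, Set.inter_univ, dim_univ]
    exact connDim_le_dim_univ
  -- replace one of the two families by the complement of the other one
  wlog hB' : B ≠ irreducibleComponents T ∨ A ≠ irreducibleComponents T
  · exact absurd (not_or.1 hB') (by simpa [and_comm] using hall)
  wlog hA' : A ≠ irreducibleComponents T generalizing A B
  · rw [Set.inter_comm]
    exact this hB hA hBn hAn (by rwa [Set.union_comm]) (fun h => hall ⟨h.2, h.1⟩) hB'.symm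
      (hB'.resolve_right (fun h => hA' h))
  set B' : Set (Set T) := irreducibleComponents T \ A with hB'def
  have hB'B : B' ⊆ B := fun x hx => (hu.symm ▸ hx.1 : x ∈ A ∪ B).resolve_left hx.2
  refine le_trans ?_ (dim_mono (Set.inter_subset_inter_right _ (Set.sUnion_mono hB'B)))
  refine iInf₂_le (⋃₀ A ∩ ⋃₀ B') ⟨(isClosed_sUnion hA (hfin.subset hA)).inter
    (isClosed_sUnion Set.diff_subset (hfin.subset Set.diff_subset)), fun hconn => ?_⟩
  have huniv : ⋃₀ A ∪ ⋃₀ B' = Set.univ := by
    rw [← Set.sUnion_union, Set.union_diff_cancel hA, sUnion_irreducibleComponents]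
  have key := hconn.2 (⋃₀ A)ᶜ (⋃₀ B')ᶜ (isClosed_sUnion hA (hfin.subset hA)).isOpen_compl
    (isClosed_sUnion Set.diff_subset (hfin.subset Set.diff_subset)).isOpen_compl
    (by rw [Set.compl_inter])
  obtain ⟨C, hC⟩ : B'.Nonempty := by
    by_contra hne
    exact hA' (subset_antisymm hA (Set.diff_eq_empty.1 (Set.not_nonempty_iff_eq_empty.1 hne)))
  obtain ⟨x, hxC, hx⟩ := Set.not_subset.1
    (not_subset_sUnion hC.1 hA (hfin.subset hA) hC.2)
  obtain ⟨D, hD⟩ := hAn
  obtain ⟨y, hyD, hy⟩ := Set.not_subset.1 (not_subset_sUnion (hA hD)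
    (Set.diff_subset : B' ⊆ _) (hfin.subset Set.diff_subset) (fun h => h.2 hD))
  obtain ⟨z, -, hz1, hz2⟩ := key ⟨x, fun h => hx h.1, hx⟩ ⟨y, fun h => hy h.2, hy⟩
  have : z ∈ ⋃₀ A ∪ ⋃₀ B' := huniv ▸ Set.mem_univ z
  exact this.elim hz1 hz2

theorem connDim_eq_iInf [Nonempty T] :
    LocCoh.connDim T = ⨅ (A : Set (Set T)) (B : Set (Set T)) (_ : A ⊆ irreducibleComponents T ∧
      B ⊆ irreducibleComponents T ∧ A.Nonempty ∧ B.Nonempty ∧
      A ∪ B = irreducibleComponents T), topologicalKrullDim ↥(⋃₀ A ∩ ⋃₀ B) := by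
  classical
  refine le_antisymm (le_iInf fun A => le_iInf fun B => le_iInf fun h =>
    connDim_le_pair h.1 h.2.1 h.2.2.1 h.2.2.2.1 h.2.2.2.2) ?_
  refine le_iInf₂ fun Z hZ => ?_
  have hcompn : (irreducibleComponents T).Nonempty :=
    ⟨_, irreducibleComponent_mem_irreducibleComponents (Classical.arbitrary T)⟩
  have hcov : ∀ x : T, ∃ C ∈ irreducibleComponents T, x ∈ C := fun x =>
    ⟨_, irreducibleComponent_mem_irreducibleComponents x, mem_irreducibleComponent⟩
  rcases (Zᶜ).eq_empty_or_nonempty with hemp | hne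
  · refine iInf_le_of_le _ (iInf_le_of_le _ (iInf_le_of_le
      ⟨subset_rfl, subset_rfl, hcompn, hcompn, Set.union_self _⟩ (dim_mono ?_)))
    rw [Set.compl_empty_iff.1 hemp]; exact Set.subset_univ _
  obtain ⟨u, v, hu, hv, huv, ⟨x, hxZ, hxu⟩, ⟨y, hyZ, hyv⟩, hdis⟩ :
      ∃ u v : Set T, IsOpen u ∧ IsOpen v ∧ Zᶜ ⊆ u ∪ v ∧ (Zᶜ ∩ u).Nonempty ∧ (Zᶜ ∩ v).Nonempty ∧
        ¬ (Zᶜ ∩ (u ∩ v)).Nonempty := by
    by_contra h
    refine hZ.2 ⟨hne, fun u v hu hv huv hxu hyv => ?_⟩
    by_contra h'
    exact h ⟨u, v, hu, hv, huv, hxu, hyv, h'⟩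
  let A : Set (Set T) := {C ∈ irreducibleComponents T | (C ∩ (Zᶜ ∩ u)).Nonempty}
  let B : Set (Set T) := irreducibleComponents T \ A
  have hnot : ∀ C ∈ irreducibleComponents T, (C ∩ (Zᶜ ∩ u)).Nonempty →
      ¬ (C ∩ (Zᶜ ∩ v)).Nonempty := by
    intro C hC h1 h2
    obtain ⟨z, -, hz⟩ := hC.1.2 _ _ (hZ.1.isOpen_compl.inter hu) (hZ.1.isOpen_compl.inter hv) h1 h2
    exact hdis ⟨z, hz.1.1, hz.1.2, hz.2.2⟩
  refine iInf_le_of_le A (iInf_le_of_le B (iInf_le_of_le
    ⟨fun C hC => hC.1, Set.diff_subset, ?_, ?_, Set.union_diff_cancel fun C hC => hC.1⟩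
    (dim_mono ?_)))
  · obtain ⟨C, hC, hxC⟩ := hcov x
    exact ⟨C, hC, x, hxC, hxZ, hxu⟩
  · obtain ⟨C, hC, hyC⟩ := hcov y
    exact ⟨C, hC, fun h => hnot C hC h.2 ⟨y, hyC, hyZ, hyv⟩⟩
  rintro z ⟨⟨C, hC, hzC⟩, ⟨D, hD, hzD⟩⟩
  by_contra hz
  rcases huv hz with hzu | hzv
  · exact hD.2 ⟨hD.1, z, hzD, hz, hzu⟩
  · exact hnot C hC.1 hC.2 ⟨z, hzC, hz, hzv⟩

/-- A proper closed subset of a finite dimensional irreducible closed subset has smaller
dimension. -/
theorem dim_lt {Z C : Set T} (hZC : Z ⊆ C) (hne : Z ≠ C) (hZ : IsClosed Z) (hC : IsClosed C)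
    (hCi : IsIrreducible C) (hfin : topologicalKrullDim C < ⊤) :
    topologicalKrullDim Z < topologicalKrullDim C := by
  let f := Set.inclusion hZC
  have hf : IsClosedEmbedding f :=
    ⟨IsEmbedding.inclusion hZC, by rw [Set.range_inclusion]; exact hZ.preimage continuous_subtype_val⟩
  haveI : IrreducibleSpace C := Subtype.irreducibleSpace hCi
  rcases Z.eq_empty_or_nonempty with rfl | hZn
  · haveI : Nonempty C := hCi.nonempty.to_subtype
    haveI : Nonempty (IrreducibleCloseds C) :=
      ⟨⟨Set.univ, IrreducibleSpace.isIrreducible_univ _, isClosed_univ⟩⟩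
    haveI : IsEmpty (IrreducibleCloseds (∅ : Set T)) := ⟨fun s => s.2.nonempty.some.2.elim⟩
    rw [topologicalKrullDim, Order.krullDim_eq_bot]
    exact lt_of_lt_of_le (WithBot.bot_lt_coe (0 : ℕ∞)) Order.krullDim_nonneg
  haveI : Nonempty Z := hZn.to_subtype
  haveI : Nonempty (IrreducibleCloseds Z) :=
    ⟨⟨_, (irreducibleComponent_mem_irreducibleComponents (Classical.arbitrary Z)).1,
      isClosed_irreducibleComponent⟩⟩
  let top : IrreducibleCloseds C :=
    ⟨Set.univ, IrreducibleSpace.isIrreducible_univ _, isClosed_univ⟩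
  let g : IrreducibleCloseds Z → IrreducibleCloseds C := fun s =>
    ⟨f '' s, s.2.image f hf.continuous.continuousOn, hf.isClosedMap _ s.3⟩
  have hgl : ∀ s, g s < top := by
    intro s
    refine lt_of_le_of_ne (Set.subset_univ _) fun h => hne (subset_antisymm hZC fun c hc => ?_)
    have : (⟨c, hc⟩ : C) ∈ (g s : Set C) := by rw [h]; trivial
    obtain ⟨z, -, hz⟩ := this
    rw [← show (z : T) = c from congrArg Subtype.val hz]
    exact z.2
  let G : WithTop (IrreducibleCloseds Z) → IrreducibleCloseds C := fun s => s.elim top g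
  have hG : StrictMono G := by
    intro a b hab
    induction a using WithTop.recTopCoe with
    | top => exact absurd hab not_top_lt
    | coe a =>
      induction b using WithTop.recTopCoe with
      | top => exact hgl a
      | coe b =>
        have hab' : (a : Set Z) ⊂ b := SetLike.coe_ssubset_coe.2 (WithTop.coe_lt_coe.1 hab)
        exact (Set.image_injective.2 hf.injective).eq_iff.not.2 hab'.ne |>
          (Set.image_mono hab'.subset).ssubset_of_ne
  have key : topologicalKrullDim Z + 1 ≤ topologicalKrullDim C := by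
    have := Order.krullDim_le_of_strictMono G hG
    rwa [Order.krullDim_WithTop] at this
  have h0 : (0 : WithBot ℕ∞) ≤ topologicalKrullDim Z := Order.krullDim_nonneg
  revert key hfin h0
  generalize topologicalKrullDim C = c
  generalize topologicalKrullDim Z = z
  intro hfin key h0
  induction z with
  | bot => simp at h0
  | coe z =>
    induction c with
    | bot => simp at key
    | coe c =>
      have hc : c < ⊤ := WithBot.coe_lt_coe.1 hfin
      have hk : z + 1 ≤ c := WithBot.coe_le_coe.1 key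
      exact WithBot.coe_lt_coe.2
        ((ENat.add_one_le_iff (ne_top_of_lt (lt_of_le_of_lt (le_self_add.trans hk) hc))).1 hk)

end GrothLib.ConnDim
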